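import Groth.Agent.VBCurve.K553.SubDefs2
import Groth.Agent.PerfC.FlatExact

/-!
# Local rings of the powers of a curve, and the ideal modules of the partial diagonals (SUB-PROD2)

* `K553.Sub.maximalIdeal_Pw`: the maximal ideal of the local ring of `C^n` at a rational point is generated
  by the maximal ideals of the local rings of `C` at the coordinates;
* `K553.Sub.mono_Dι_crd`: `D (crd i) (crd j) ⟶ O` is a monomorphism for `i ≠ j` (the morphism
  `(crd i, crd j) : C^n ⟶ C × C` is flat).
-/

set_option autoImplicit false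
universe u
open CategoryTheory CategoryTheory.Limits AlgebraicGeometry

namespace K987.SubProd2

open K553.Sub

section flat

variable {k : Type u} [Field k] (C : Over (Spec (CommRingCat.of k)))

lemma flat_comp {X Y Z : Scheme.{u}} (f : X ⟶ Y) (g : Y ⟶ Z) (hf : Flat f) (hg : Flat g) : Flat (f ≫ g) :=
  MorphismProperty.comp_mem (@Flat) f g hf hg

lemma flat_hom [Flat C.hom] (n : ℕ) : Flat (Pw C n).hom := by
  induction n with
  | zero => exact inferInstanceAs (Flat (𝟙 _))
  | succ n ih =>
    have := ih
    exact inferInstanceAs (Flat (pullback.fst (Pw C n).hom C.hom ≫ (Pw C n).hom))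

lemma flat_qr {T : Over (Spec (CommRingCat.of k))} [Flat T.hom] : Flat (qr C T).left :=
  inferInstanceAs (Flat (pullback.snd T.hom C.hom))

lemma flat_pr {T : Over (Spec (CommRingCat.of k))} [Flat C.hom] : Flat (pr C T).left :=
  inferInstanceAs (Flat (pullback.fst T.hom C.hom))

lemma crd_castSucc (n : ℕ) (i : Fin n) : crd C (n + 1) i.castSucc = pr C (Pw C n) ≫ crd C n i :=
  Fin.snoc_castSucc (α := fun _ => Pw C (n + 1) ⟶ C) _ _ _

lemma crd_last (n : ℕ) : crd C (n + 1) (Fin.last n) = qr C (Pw C n) :=
  Fin.snoc_last (α := fun _ => Pw C (n + 1) ⟶ C) _ _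

lemma flat_crd [Flat C.hom] (n : ℕ) (i : Fin n) : Flat (crd C n i).left := by
  induction n with
  | zero => exact i.elim0
  | succ n ih =>
    induction i using Fin.lastCases with
    | last =>
      rw [crd_last]
      have := flat_hom C n
      exact flat_qr C
    | cast i =>
      rw [crd_castSucc, Over.comp_left]
      exact flat_comp _ _ (flat_pr C) (ih i)

lemma flat_pair_qr {T : Over (Spec (CommRingCat.of k))} (a : T ⟶ C) (ha : Flat a.left) :
    Flat (K553.Sub.pair (pr C T ≫ a) (qr C T)) := by
  have h := MorphismProperty.pullbackMap (P := @Flat) (f := T.hom) (g := C.hom) (f' := C.hom) (g' := C.hom)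
    (i₁ := a.left) (i₂ := 𝟙 _) ha inferInstance (Over.w a).symm (Category.id_comp _).symm
  have e : K553.Sub.pair (pr C T ≫ a) (qr C T) =
      (pullback.map T.hom C.hom C.hom C.hom a.left (𝟙 _) (𝟙 _)
        ((Category.comp_id _).trans (Over.w a).symm) ((Category.comp_id _).trans (Category.id_comp _).symm)) := by
    refine pullback.hom_ext ?_ ?_
    · refine (pullback.lift_fst _ _ _).trans ?_
      refine Eq.trans ?_ (pullback.lift_fst _ _ _).symm
      rfl
    · refine (pullback.lift_snd _ _ _).trans ?_
      refine Eq.trans ?_ (pullback.lift_snd _ _ _).symm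
      exact (Category.comp_id _).symm
  rw [e]
  exact h

lemma flat_pair_symm {T : Over (Spec (CommRingCat.of k))} (a b : T ⟶ C) (h : Flat (K553.Sub.pair a b)) :
    Flat (K553.Sub.pair b a) := by
  have : K553.Sub.pair b a = K553.Sub.pair a b ≫ (pullbackSymmetry C.hom C.hom).hom := by
    refine pullback.hom_ext ?_ ?_
    · rw [Category.assoc, pullbackSymmetry_hom_comp_fst, K553.Sub.pair, K553.Sub.pair, pullback.lift_fst,
        pullback.lift_snd]
    · rw [Category.assoc, pullbackSymmetry_hom_comp_snd, K553.Sub.pair, K553.Sub.pair, pullback.lift_fst,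
        pullback.lift_snd]
  rw [this]
  exact flat_comp _ _ h inferInstance

lemma flat_pair_comp {T U : Over (Spec (CommRingCat.of k))} (f : U ⟶ T) (a b : T ⟶ C) (hf : Flat f.left)
    (h : Flat (K553.Sub.pair a b)) : Flat (K553.Sub.pair (f ≫ a) (f ≫ b)) := by
  have : K553.Sub.pair (f ≫ a) (f ≫ b) = f.left ≫ K553.Sub.pair a b := by
    refine pullback.hom_ext ?_ ?_
    · rw [Category.assoc, K553.Sub.pair, K553.Sub.pair, pullback.lift_fst, pullback.lift_fst, Over.comp_left]
    · rw [Category.assoc, K553.Sub.pair, K553.Sub.pair, pullback.lift_snd, pullback.lift_snd, Over.comp_left]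
  rw [this]
  exact flat_comp _ _ hf h

lemma flat_pair [Flat C.hom] (n : ℕ) (i j : Fin n) (hij : i ≠ j) :
    Flat (K553.Sub.pair (crd C n i) (crd C n j)) := by
  induction n with
  | zero => exact i.elim0
  | succ n ih =>
    induction i using Fin.lastCases with
    | last =>
      induction j using Fin.lastCases with
      | last => exact absurd rfl hij
      | cast j =>
        rw [crd_last, crd_castSucc]
        exact flat_pair_symm C _ _ (flat_pair_qr C (crd C n j) (flat_crd C n j))
    | cast i =>
      induction j using Fin.lastCases with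
      | last =>
        rw [crd_last, crd_castSucc]
        exact flat_pair_qr C (crd C n i) (flat_crd C n i)
      | cast j =>
        rw [crd_castSucc, crd_castSucc]
        exact flat_pair_comp C _ _ _ (flat_pr C) (ih i j (fun h => hij (congrArg _ h)))

lemma mono_idealModι {X : Scheme.{u}} (I : X.IdealSheafData) : Mono (ClSub.idealModι I) := by
  unfold ClSub.idealModι ClSub.idealMod
  exact equalizer.ι_mono

lemma mono_Dι {T : Over (Spec (CommRingCat.of k))} (a b : T ⟶ C) [Flat (K553.Sub.pair a b)] : Mono (Dι a b) := by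
  have h1 : Mono (ClSub.idealModι (pullback.diagonal C.hom).ker) := mono_idealModι _
  have h2 := Groth.Agent.PerfC.FlatExact.mono_pullback_map (K553.Sub.pair a b)
    (ClSub.idealModι (pullback.diagonal C.hom).ker)
  exact @mono_comp _ _ _ _ _ _ h2 _ inferInstance

end flat

section loc

variable {k : Type u} [Field k]

/-- A rational point through the local ring. -/
lemma exists_sigma {X : Scheme.{u}} (p : Spec (CommRingCat.of k) ⟶ X) (x : X)
    (hx : p (IsLocalRing.closedPoint k) = x) :
    ∃ σ : X.presheaf.stalk x ⟶ CommRingCat.of k, Spec.map σ ≫ X.fromSpecStalk x = p ∧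
      ∀ a ∈ IsLocalRing.maximalIdeal (X.presheaf.stalk x), σ.hom a = 0 := by
  subst hx
  refine ⟨Scheme.stalkClosedPointTo (R := CommRingCat.of k) p,
    Scheme.Spec_stalkClosedPointTo_fromSpecStalk p, fun a ha => ?_⟩
  by_contra hne
  exact ha (isUnit_of_map_unit (Scheme.stalkClosedPointTo (R := CommRingCat.of k) p).hom a
    (isUnit_iff_ne_zero.2 hne))

/-- If the germ modulo `I` of a rational point factors through the point, `I` is the maximal ideal. -/
lemma maximalIdeal_le {X : Scheme.{u}} (p : Spec (CommRingCat.of k) ⟶ X) (x : X)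
    (hx : p (IsLocalRing.closedPoint k) = x) (I : Ideal (X.presheaf.stalk x))
    (g : Spec (CommRingCat.of (X.presheaf.stalk x ⧸ I)) ⟶ Spec (CommRingCat.of k))
    (h : Spec.map (CommRingCat.ofHom (Ideal.Quotient.mk I)) ≫ X.fromSpecStalk x = g ≫ p) :
    IsLocalRing.maximalIdeal (X.presheaf.stalk x) ≤ I := by
  obtain ⟨γ, rfl⟩ := Spec.map_surjective g
  obtain ⟨σ, hσ, hσm⟩ := exists_sigma p x hx
  rw [← hσ, ← Category.assoc (Spec.map γ)] at h
  have h' : Spec.map (CommRingCat.ofHom (Ideal.Quotient.mk I)) = Spec.map γ ≫ Spec.map σ :=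
    (cancel_mono (X.fromSpecStalk x)).1 h
  rw [← Spec.map_comp] at h'
  have h'' := Spec.map_injective h'
  intro a ha
  have h3 : Ideal.Quotient.mk I a = γ.hom (σ.hom a) := congrArg (fun φ => φ.hom a) h''
  rw [hσm a ha, map_zero] at h3
  exact Ideal.Quotient.eq_zero_iff_mem.1 h3

/-- A ring map out of the local ring of a rational point which kills the maximal ideal factors through the point. -/
lemma factor {Y : Scheme.{u}} (f : Y ⟶ Spec (CommRingCat.of k)) (p : Spec (CommRingCat.of k) ⟶ Y)
    (hp : p ≫ f = 𝟙 _) (y : Y) (hy : p (IsLocalRing.closedPoint k) = y) {B : CommRingCat.{u}}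
    (φ : Y.presheaf.stalk y ⟶ B)
    (hφ : ∀ a ∈ IsLocalRing.maximalIdeal (Y.presheaf.stalk y), φ.hom a = 0) :
    Spec.map φ ≫ Y.fromSpecStalk y = (Spec.map φ ≫ Y.fromSpecStalk y ≫ f) ≫ p := by
  obtain ⟨ι, hι⟩ := Spec.map_surjective (Y.fromSpecStalk y ≫ f)
  obtain ⟨σ, hσ, -⟩ := exists_sigma p y hy
  have e2 : ι ≫ σ = 𝟙 _ := by
    apply Spec.map_injective
    rw [Spec.map_comp, hι, ← Category.assoc, hσ, hp, Spec.map_id]
  have e3 : σ ≫ ι ≫ φ = φ := by
    ext a
    have hmem : a - ι.hom (σ.hom a) ∈ IsLocalRing.maximalIdeal (Y.presheaf.stalk y) := by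
      intro hu
      have h0 := hu.map σ.hom
      rw [map_sub] at h0
      have h1 : σ.hom (ι.hom (σ.hom a)) = σ.hom a := congrArg (fun φ => φ.hom (σ.hom a)) e2
      rw [h1, sub_self] at h0
      exact not_isUnit_zero h0
    have := hφ _ hmem
    rw [map_sub, sub_eq_zero] at this
    exact this.symm
  rw [← hι, ← hσ, ← Category.assoc, ← Spec.map_comp, ← Spec.map_comp, e3]

variable (C : Over (Spec (CommRingCat.of k)))

lemma maximalIdeal_TX {T : Over (Spec (CommRingCat.of k))} (t : pt (Spec (CommRingCat.of k)) ⟶ TX C T)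
    (w : (TX C T).left) (hw : atp t = w) :
    IsLocalRing.maximalIdeal ((TX C T).left.presheaf.stalk w) ≤
      (IsLocalRing.maximalIdeal (T.left.presheaf.stalk ((pr C T).left w))).map
        ((pr C T).left.stalkMap w).hom ⊔
      (IsLocalRing.maximalIdeal (C.left.presheaf.stalk ((qr C T).left w))).map
        ((qr C T).left.stalkMap w).hom := by
  set I := (IsLocalRing.maximalIdeal (T.left.presheaf.stalk ((pr C T).left w))).map
        ((pr C T).left.stalkMap w).hom ⊔
      (IsLocalRing.maximalIdeal (C.left.presheaf.stalk ((qr C T).left w))).map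
        ((qr C T).left.stalkMap w).hom with hI
  refine maximalIdeal_le t.left w hw I (Spec.map (CommRingCat.ofHom (Ideal.Quotient.mk I)) ≫
    (TX C T).left.fromSpecStalk w ≫ (TX C T).hom) ?_
  have key : ∀ {Y : Over (Spec (CommRingCat.of k))} (q : TX C T ⟶ Y)
      (_ : ∀ a ∈ IsLocalRing.maximalIdeal (Y.left.presheaf.stalk (q.left w)),
        (q.left.stalkMap w).hom a ∈ I),
      Spec.map (CommRingCat.ofHom (Ideal.Quotient.mk I)) ≫ (TX C T).left.fromSpecStalk w ≫ q.left =
        ((Spec.map (CommRingCat.ofHom (Ideal.Quotient.mk I)) ≫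
          (TX C T).left.fromSpecStalk w ≫ (TX C T).hom) ≫ t.left) ≫ q.left := by
    intro Y q h
    have hp := factor Y.hom (t ≫ q).left (Over.w (t ≫ q)) (q.left w)
      (by rw [← hw]; rfl) (q.left.stalkMap w ≫ CommRingCat.ofHom (Ideal.Quotient.mk I))
      (fun a ha => Ideal.Quotient.eq_zero_iff_mem.2 (h a ha))
    have e : Spec.map (q.left.stalkMap w ≫ CommRingCat.ofHom (Ideal.Quotient.mk I)) ≫
        Y.left.fromSpecStalk (q.left w) =
        Spec.map (CommRingCat.ofHom (Ideal.Quotient.mk I)) ≫ (TX C T).left.fromSpecStalk w ≫ q.left := by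
      rw [Spec.map_comp, Category.assoc, Scheme.SpecMap_stalkMap_fromSpecStalk]
      rfl
    rw [← Category.assoc (Spec.map (q.left.stalkMap w ≫ _)), e] at hp
    rw [hp]
    have e2 : q.left ≫ Y.hom = (TX C T).hom := Over.w q
    simp only [Category.assoc, e2, Over.comp_left]
  refine pullback.hom_ext (f := T.hom) (g := C.hom) ?_ ?_
  · exact (Category.assoc _ _ _).trans
      (key (pr C T) fun a ha => Ideal.mem_sup_left (Ideal.mem_map_of_mem _ ha))
  · exact (Category.assoc _ _ _).trans
      (key (qr C T) fun a ha => Ideal.mem_sup_right (Ideal.mem_map_of_mem _ ha))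

/-- the ideal generated by the maximal ideal of the image point -/
noncomputable def mI {T : Over (Spec (CommRingCat.of k))} (g : T ⟶ C) (w : T.left) :
    Ideal (T.left.presheaf.stalk w) :=
  (IsLocalRing.maximalIdeal (C.left.presheaf.stalk (g.left w))).map (g.left.stalkMap w).hom

lemma mI_le {T : Over (Spec (CommRingCat.of k))} (g : T ⟶ C) (w : T.left) :
    mI C g w ≤ IsLocalRing.maximalIdeal (T.left.presheaf.stalk w) := by
  rw [mI, Ideal.map_le_iff_le_comap]
  intro a ha
  exact fun hu => ha (isUnit_of_map_unit (g.left.stalkMap w).hom a hu)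

lemma mI_comp {T U : Over (Spec (CommRingCat.of k))} (f : U ⟶ T) (g : T ⟶ C) (w : U.left) :
    (mI C g (f.left w)).map (f.left.stalkMap w).hom = mI C (f ≫ g) w := by
  rw [mI, mI, Ideal.map_map]
  have : (f ≫ g).left.stalkMap w = g.left.stalkMap (f.left w) ≫ f.left.stalkMap w :=
    Scheme.Hom.stalkMap_comp f.left g.left w
  rw [this]
  rfl

lemma maximalIdeal_Pw_aux (n : ℕ) (t : pt (Spec (CommRingCat.of k)) ⟶ Pw C n) (w : (Pw C n).left)
    (hw : atp t = w) :
    IsLocalRing.maximalIdeal ((Pw C n).left.presheaf.stalk w) ≤ ⨆ i : Fin n, mI C (crd C n i) w := by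
  induction n with
  | zero =>
    have ht : t.left = 𝟙 _ := (Category.comp_id t.left).symm.trans (Over.w t)
    have hw' : (𝟙 (Spec (CommRingCat.of k)) : Spec (CommRingCat.of k) ⟶ Spec (CommRingCat.of k))
        (IsLocalRing.closedPoint k) = w :=
      (congrArg (fun g : Spec (CommRingCat.of k) ⟶ Spec (CommRingCat.of k) =>
        g (IsLocalRing.closedPoint k)) ht.symm).trans hw
    have h := maximalIdeal_le (X := (Pw C 0).left) (𝟙 _) w hw'
      ⊥ (Spec.map (CommRingCat.ofHom (Ideal.Quotient.mk _)) ≫ (Pw C 0).left.fromSpecStalk w)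
      (Category.comp_id _).symm
    exact h.trans bot_le
  | succ n ih =>
    refine (maximalIdeal_TX C (T := Pw C n) t w hw).trans (sup_le ?_ ?_)
    · refine (Ideal.map_mono (ih (t ≫ pr C (Pw C n)) _ (by rw [← hw]; rfl))).trans ?_
      rw [Ideal.map_iSup]
      refine iSup_le fun i => ?_
      rw [mI_comp, ← crd_castSucc]
      exact le_iSup (fun i => mI C (crd C (n + 1) i) w) i.castSucc
    · change mI C (qr C (Pw C n)) w ≤ _
      rw [← crd_last]
      exact le_iSup (fun i => mI C (crd C (n + 1) i) w) (Fin.last n)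

end loc

end K987.SubProd2

namespace K553.Sub

section field

variable {k : Type u} [Field k] [IsAlgClosed k] (C : Over (Spec (CommRingCat.of k)))
  [IsIntegral C.left] [IsProper C.hom] [Smooth C.hom] (hdim : topologicalKrullDim C.left = 1)

/-- the local ring of the power at a closed point: the maximal ideal is generated by the maximal ideals of the
local rings of the curve at the coordinates -/
theorem maximalIdeal_Pw (n : ℕ) (t : pt (Spec (CommRingCat.of k)) ⟶ Pw C n) :
    IsLocalRing.maximalIdeal ((Pw C n).left.presheaf.stalk (atp t)) =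
      ⨆ i : Fin n, (IsLocalRing.maximalIdeal (C.left.presheaf.stalk ((crd C n i).left (atp t)))).map
        ((crd C n i).left.stalkMap (atp t)).hom :=
  le_antisymm (K987.SubProd2.maximalIdeal_Pw_aux C n t _ rfl)
    (iSup_le fun i => K987.SubProd2.mI_le C (crd C n i) (atp t))

include hdim in
/-- `Dι` is a monomorphism when the two coordinates are different -/
theorem mono_Dι_crd (n : ℕ) (i j : Fin n) (hij : i ≠ j) : Mono (Dι (crd C n i) (crd C n j)) :=
  haveI := K987.SubProd2.flat_pair C n i j hij
  K987.SubProd2.mono_Dι C _ _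

end field

end K553.Sub
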